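import Cfsg.Agent.H70.SemiCore.Main
import Cfsg.Agent.S2916

/-!
# Recognition of `L₃(3)` and `M₁₁` from the centraliser modulo its odd kernel
-/

set_option autoImplicit false

namespace Cfsg.Agent.H70.SemiCore

open Cfsg.Agent.H23.GL23

universe u

variable {G : Type u} [Group G] [Fintype G]

/-- The group is `L₃(3)` or `M₁₁`. -/
theorem Core.recognition (D : Core G) [IsSimpleGroup G]
    (hone : ∀ v : G, orderOf v = 2 → IsConj D.t v) :
    Nonempty (G ≃* Matrix.ProjectiveSpecialLinearGroup (Fin 3) (ZMod 3)) ∨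
      Cfsg.Spor.IsoM11 G := by
  haveI : Fact (Nat.Prime 3) := ⟨Nat.prime_three⟩
  let e : ↥D.C ≃* M := MulEquiv.ofBijective D.π
    ⟨(MonoidHom.ker_eq_bot_iff D.π).1 (D.ker_eq_bot hone), D.surj⟩
  obtain ⟨S, hS⟩ := exists_setup D.t D.order_t (e.trans equivGL)
  have hone' : ∀ v : G, orderOf v = 2 → IsConj S.t v := hS.symm ▸ hone
  rcases S.card_final hone' with h | h
  · exact Or.inl (S.nonempty_equiv_of_card hone' h)
  · exact Or.inr (H69.M11.nonempty_mulEquiv ⟨inferInstance, h⟩ Golay.isM11_spor)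

end Cfsg.Agent.H70.SemiCore
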