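import Mathlib

/-!
# The arithmetic of the two counts
-/

set_option autoImplicit false
set_option maxHeartbeats 800000

namespace Cfsg.Agent.H70.SemiCore

theorem dvd_sq_of_odd_mul {m x : ℤ} {n : ℕ} (hm : Odd m) (h : (2 : ℤ) ^ n ∣ m * x ^ 2) :
    (2 : ℤ) ^ n ∣ x ^ 2 := by
  refine IsCoprime.dvd_of_dvd_mul_left ?_ h
  refine IsCoprime.pow_left ?_
  obtain ⟨k, rfl⟩ := hm
  exact ⟨-k, 1, by ring⟩

theorem eight_dvd {x : ℤ} (h : (2 : ℤ) ^ 6 ∣ x ^ 2) : 8 ∣ x := by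
  rw [show (2 : ℤ) ^ 6 = 8 ^ 2 by norm_num] at h
  exact (Int.pow_dvd_pow_iff two_ne_zero).1 h

theorem sixteen_dvd {x : ℤ} (h : (2 : ℤ) ^ 7 ∣ x ^ 2) : 16 ∣ x := by
  obtain ⟨y, rfl⟩ := eight_dvd ((pow_dvd_pow 2 (by norm_num : 6 ≤ 7)).trans h)
  have h2 : (2 : ℤ) ∣ y ^ 2 := by
    obtain ⟨z, hz⟩ := h
    exact ⟨z, by linarith⟩
  obtain ⟨z, rfl⟩ := Int.prime_two.dvd_of_dvd_pow h2
  exact ⟨z, by ring⟩

theorem arith {m W : ℕ} (hm : Odd m) (hW : Odd W) {a b : ℤ}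
    (h1 : 288 * (W : ℤ) * (a * (a + 1)) = (m : ℤ) * (a - 2) ^ 2)
    (h2 : 576 * (W : ℤ) * (b * (b + 1)) = (m : ℤ) * (b + 4) ^ 2) :
    (a = 10 ∧ b = 44 ∧ m = 495 * W) ∨ (a = 26 ∧ b = 12 ∧ m = 351 * W) := by
  have hmZ : Odd (m : ℤ) := by exact_mod_cast hm
  have hm0 : (m : ℤ) ≠ 0 := by exact_mod_cast hm.pos.ne'
  have hW0 : (W : ℤ) ≠ 0 := by exact_mod_cast hW.pos.ne'
  obtain ⟨c, hc⟩ : 8 ∣ a - 2 := by
    obtain ⟨q, hq⟩ := even_iff_two_dvd.1 (Int.even_mul_succ_self a)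
    refine eight_dvd (dvd_sq_of_odd_mul hmZ ⟨9 * W * q, ?_⟩)
    rw [← h1, hq]; ring
  obtain ⟨e, he⟩ : 16 ∣ b + 4 := by
    obtain ⟨q, hq⟩ := even_iff_two_dvd.1 (Int.even_mul_succ_self b)
    refine sixteen_dvd (dvd_sq_of_odd_mul hmZ ⟨9 * W * q, ?_⟩)
    rw [← h2, hq]; ring
  obtain rfl : a = 8 * c + 2 := by linarith
  obtain rfl : b = 16 * e - 4 := by linarith
  have e1 : 9 * (W : ℤ) * ((4 * c + 1) * (8 * c + 3)) = (m : ℤ) * c ^ 2 := by linarith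
  have e2 : 9 * (W : ℤ) * ((4 * e - 1) * (16 * e - 3)) = (m : ℤ) * e ^ 2 := by linarith
  have hc0 : c ≠ 0 := by
    rintro rfl
    norm_num at e1
    exact hW0 (by exact_mod_cast e1)
  have he0 : e ≠ 0 := by
    rintro rfl
    norm_num at e2
    exact hW0 (by exact_mod_cast e2)
  have hx : c ^ 2 * ((4 * e - 1) * (16 * e - 3)) = e ^ 2 * ((4 * c + 1) * (8 * c + 3)) := by
    have : 9 * (W : ℤ) * (c ^ 2 * ((4 * e - 1) * (16 * e - 3)) -
        e ^ 2 * ((4 * c + 1) * (8 * c + 3))) = 0 := by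
      linear_combination c ^ 2 * e2 - e ^ 2 * e1
    rcases mul_eq_zero.1 this with h | h
    · exact absurd h (mul_ne_zero (by norm_num) hW0)
    · linarith
  have hce : c ∣ 3 * e := by
    have h0 : c ^ 2 ∣ (4 * c + 1) * (e ^ 2 * (8 * c + 3)) :=
      ⟨(4 * e - 1) * (16 * e - 3), by linarith⟩
    have h := IsCoprime.dvd_of_dvd_mul_left
      (IsCoprime.pow_left (m := 2) (⟨-4, 1, by ring⟩ : IsCoprime c (4 * c + 1))) h0
    refine (Int.pow_dvd_pow_iff two_ne_zero).1 ?_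
    rw [show (3 * e) ^ 2 = e ^ 2 * (8 * c + 3) * (3 - 8 * c) + c ^ 2 * (64 * e ^ 2) by ring]
    exact dvd_add (h.mul_right _) (dvd_mul_right _ _)
  have hec : e ∣ 3 * c := by
    have h0 : e ^ 2 ∣ (4 * e - 1) * (c ^ 2 * (16 * e - 3)) :=
      ⟨(4 * c + 1) * (8 * c + 3), by linarith⟩
    have h := IsCoprime.dvd_of_dvd_mul_left
      (IsCoprime.pow_left (m := 2) (⟨4, -1, by ring⟩ : IsCoprime e (4 * e - 1))) h0
    refine (Int.pow_dvd_pow_iff two_ne_zero).1 ?_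
    rw [show (3 * c) ^ 2 = c ^ 2 * (16 * e - 3) * (-16 * e - 3) + e ^ 2 * (256 * c ^ 2) by ring]
    exact dvd_add (h.mul_right _) (dvd_mul_right _ _)
  obtain ⟨k, hk⟩ := hce
  obtain ⟨l, hl⟩ := hec
  have hkl : k * l = 9 := mul_left_cancel₀ hc0 (by linear_combination (-l) * hk - 3 * hl)
  have hq : (4 * k * c - 3) * (16 * k * c - 9) = k ^ 2 * ((4 * c + 1) * (8 * c + 3)) := by
    refine mul_left_cancel₀ (pow_ne_zero 2 hc0) ?_
    linear_combination 9 * hx + (c ^ 2 * (-64 * (3 * e + k * c) + 84) +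
      (3 * e + k * c) * ((4 * c + 1) * (8 * c + 3))) * hk
  have hk9 : k ∈ ({1, 3, 9, -1, -3, -9} : Finset ℤ) := by
    have h9 : k ∣ 9 := ⟨l, hkl.symm⟩
    have hle := Int.le_of_dvd (by norm_num) h9
    have hge := Int.le_of_dvd (by norm_num) (neg_dvd.2 h9)
    have hge' : -9 ≤ k := by linarith
    interval_cases k <;> revert h9 <;> decide
  simp only [Finset.mem_insert, Finset.mem_singleton] at hk9
  rcases hk9 with rfl | rfl | rfl | rfl | rfl | rfl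
  all_goals
    have hb1 : c ≤ 20 := by nlinarith [sq_nonneg (c - 10)]
    have hb2 : -20 ≤ c := by nlinarith [sq_nonneg (c + 10)]
    interval_cases c <;> norm_num at hq <;> norm_num at hc0
  all_goals
    obtain rfl | rfl : e = 3 ∨ e = 1 := by omega
  all_goals
    first
      | (exfalso; omega)
      | exact Or.inl ⟨by norm_num, by norm_num, by exact_mod_cast (by linarith : (m : ℤ) = 495 * W)⟩
      | exact Or.inr ⟨by norm_num, by norm_num, by exact_mod_cast (by linarith : (m : ℤ) = 351 * W)⟩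

end Cfsg.Agent.H70.SemiCore
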