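import Cfsg.Agent.CharBasic.Rep
import Cfsg.Agent.CharBasic.Kernel

/-!
# The congruence modulo four for an involution centralising a quaternion pair
-/

set_option autoImplicit false
set_option maxHeartbeats 800000
set_option linter.style.haveILetI false

namespace Cfsg.Agent.H70.SemiCore

open Module Finset

universe u v

/-- Two commuting operators with commutator `-1` act on an even dimensional space. -/
theorem even_finrank {E : Type v} [AddCommGroup E] [Module ℂ E] [FiniteDimensional ℂ E]
    (I I' J J' : Module.End ℂ E) (hI : I * I' = 1) (hJ : J * J' = 1)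
    (h : I * J * I' * J' = -1) : Even (finrank ℂ E) := by
  have hd := congrArg LinearMap.det h
  have e1 : LinearMap.det I * LinearMap.det I' = 1 := by rw [← map_mul, hI, map_one]
  have e2 : LinearMap.det J * LinearMap.det J' = 1 := by rw [← map_mul, hJ, map_one]
  have e3 : LinearMap.det (-1 : Module.End ℂ E) = (-1 : ℂ) ^ finrank ℂ E := by
    rw [show (-1 : Module.End ℂ E) = (-1 : ℂ) • 1 by rw [neg_smul, one_smul], LinearMap.det_smul,
      map_one, mul_one]
  rw [map_mul, map_mul, map_mul, e3,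
    show LinearMap.det I * LinearMap.det J * LinearMap.det I' * LinearMap.det J' =
      (LinearMap.det I * LinearMap.det I') * (LinearMap.det J * LinearMap.det J') by ring,
    e1, e2, one_mul] at hd
  by_contra hodd
  rw [Nat.not_even_iff_odd.1 hodd |>.neg_one_pow] at hd
  norm_num at hd

variable {G : Type u} [Group G] [Finite G]

/-- The difference of the values at `k` and `t k` is four times a sum of roots of unity. -/
theorem pm_split {d : ℕ} (ρ : Representation ℂ G (Fin d → ℂ)) {t k i j : G} (ht : t * t = 1)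
    (htk : Commute t k) {n : ℕ} (hn : Odd n) (hkn : k ^ n = 1)
    (hi : Commute i (t * k)) (hj : Commute j (t * k)) (hij : i * j * i⁻¹ * j⁻¹ = t) :
    ∃ s : Multiset ℂ, (∀ μ ∈ s, μ ^ n = 1) ∧
      ρ.character k - ρ.character (t * k) = 4 * s.sum ∧
      ρ.character 1 - ρ.character t = 4 * (Multiset.card s : ℂ) := by
  classical
  set T := ρ (t * k) with hT
  have htn : t ^ n = t := by
    obtain ⟨a, rfl⟩ := hn
    rw [pow_succ, pow_mul, pow_two, ht, one_pow, one_mul]
  have hTn : T ^ n = ρ t := by rw [hT, ← map_pow, htk.mul_pow, htn, hkn, mul_one]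
  have hkT : ρ k = T ^ (n + 1) := by
    rw [hT, ← map_pow]
    congr 1
    rw [pow_succ, htk.mul_pow, htn, hkn, mul_one, ← mul_assoc, ht, one_mul]
  have hpow : T ^ (2 * n) = 1 := by
    rw [mul_comm, pow_mul, hTn, ← map_pow, pow_two, ht, map_one]
  obtain ⟨b, μ, hb, hμ⟩ := CharBasic.exists_eigenbasis (f := T) (by have := hn.pos; omega) hpow
  have hbn : ∀ m : ℕ, ∀ l, (T ^ m) (b l) = μ l ^ m • b l := by
    intro m l
    induction m with
    | zero => simp
    | succ m ih => rw [pow_succ', Module.End.mul_apply, ih, map_smul, hb, smul_smul, ← pow_succ]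
  have ck : ρ.character k = ∑ l, μ l ^ (n + 1) :=
    CharBasic.trace_eq_sum_of_eigenbasis b _ _ fun l => by rw [hkT]; exact hbn _ l
  have ctk : ρ.character (t * k) = ∑ l, μ l :=
    CharBasic.trace_eq_sum_of_eigenbasis b _ _ hb
  have ct : ρ.character t = ∑ l, μ l ^ n :=
    CharBasic.trace_eq_sum_of_eigenbasis b _ _ fun l => by rw [← hTn]; exact hbn _ l
  have c1 : ρ.character 1 = ∑ _l : Fin (finrank ℂ (Fin d → ℂ)), (1 : ℂ) :=
    CharBasic.trace_eq_sum_of_eigenbasis b _ _ fun l => by simp
  have hsq : ∀ l, μ l ^ n = 1 ∨ μ l ^ n = -1 := fun l => by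
    have := hμ l
    rw [mul_comm, pow_mul] at this
    exact sq_eq_one_iff.1 this
  set L := (univ.image μ).filter fun z => z ^ n = -1 with hL
  have hev : ∀ z ∈ L, Even (univ.filter fun l => μ l = z).card := by
    intro z hz
    have hzn : z ^ n = -1 := (mem_filter.1 hz).2
    set E := Module.End.eigenspace T z with hE
    have hspan : E = Submodule.span ℂ (b '' {l | μ l = z}) := by
      ext v
      rw [Basis.mem_span_image, hE, Module.End.mem_eigenspace_iff]
      constructor
      · intro hv l hl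
        have h1 : b.repr (T v) l = μ l * b.repr v l := by
          conv_lhs => rw [← b.sum_repr v]
          rw [map_sum, map_sum, Finsupp.finset_sum_apply, sum_eq_single l]
          · rw [map_smul, hb, smul_smul, map_smul, b.repr_self]; simp [mul_comm]
          · intro m _ hm; rw [map_smul, hb, smul_smul, map_smul, b.repr_self]; simp [hm]
          · simp
        rw [hv, map_smul, Finsupp.smul_apply, smul_eq_mul] at h1
        exact (mul_right_cancel₀ (Finsupp.mem_support_iff.1 hl) h1).symm
      · intro hv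
        conv_lhs => rw [← b.sum_repr v]
        conv_rhs => rw [← b.sum_repr v]
        rw [map_sum, smul_sum]
        refine sum_congr rfl fun l _ => ?_
        rw [map_smul, hb, smul_smul, smul_smul]
        by_cases hl : l ∈ (b.repr v).support
        · rw [show μ l = z from hv hl, mul_comm]
        · simp [Finsupp.notMem_support_iff.1 hl]
    have hfin : finrank ℂ E = (univ.filter fun l => μ l = z).card := by
      rw [hspan, Set.image_eq_range]
      exact (finrank_span_eq_card (b.linearIndependent.comp _ Subtype.val_injective)).trans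
        (Fintype.card_subtype _)
    have hmap : ∀ g : G, Commute g (t * k) → ∀ v ∈ E, ρ g v ∈ E := fun g hg v hv => by
      rw [hE, Module.End.mem_eigenspace_iff] at hv ⊢
      rw [hT, ← Module.End.mul_apply, ← map_mul, ← hg.eq, map_mul, Module.End.mul_apply, ← hT, hv,
        map_smul]
    rw [← hfin]
    refine even_finrank ((ρ i).restrict (hmap i hi)) ((ρ i⁻¹).restrict (hmap i⁻¹ hi.inv_left))
      ((ρ j).restrict (hmap j hj)) ((ρ j⁻¹).restrict (hmap j⁻¹ hj.inv_left)) ?_ ?_ ?_
    · exact LinearMap.ext fun v => Subtype.ext (by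
        change ρ i (ρ i⁻¹ (v : Fin d → ℂ)) = v
        rw [← Module.End.mul_apply, ← map_mul, mul_inv_cancel, map_one, Module.End.one_apply])
    · exact LinearMap.ext fun v => Subtype.ext (by
        change ρ j (ρ j⁻¹ (v : Fin d → ℂ)) = v
        rw [← Module.End.mul_apply, ← map_mul, mul_inv_cancel, map_one, Module.End.one_apply])
    · refine LinearMap.ext fun v => Subtype.ext ?_
      change ρ i (ρ j (ρ i⁻¹ (ρ j⁻¹ (v : Fin d → ℂ)))) = -(v : Fin d → ℂ)
      rw [← Module.End.mul_apply (ρ i), ← map_mul, ← Module.End.mul_apply (ρ (i * j)), ← map_mul,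
        ← Module.End.mul_apply (ρ (i * j * i⁻¹)), ← map_mul, hij, ← hTn]
      have hv := Module.End.mem_eigenspace_iff.1 v.2
      have : ∀ m : ℕ, (T ^ m) (v : Fin d → ℂ) = z ^ m • (v : Fin d → ℂ) := fun m => by
        induction m with
        | zero => simp
        | succ m ih => rw [pow_succ', Module.End.mul_apply, ih, map_smul, hv, smul_smul, ← pow_succ]
      rw [this, hzn, neg_one_smul]
  refine ⟨L.val.bind fun z => Multiset.replicate ((univ.filter fun l => μ l = z).card / 2) (-z),
    ?_, ?_, ?_⟩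
  · intro x hx
    obtain ⟨z, hz, hx⟩ := Multiset.mem_bind.1 hx
    rw [Multiset.eq_of_mem_replicate hx, hn.neg_pow, (mem_filter.1 (show z ∈ L from hz)).2,
      neg_neg]
  · have hfib : ∑ z ∈ L, ∑ l ∈ univ.filter (fun l => μ l = z), μ l =
        ∑ l ∈ univ.filter (fun l => μ l ^ n = -1), μ l := by
      rw [← sum_fiberwise_of_maps_to (g := μ) (t := L)
        (s := univ.filter fun l => μ l ^ n = -1) (fun l hl => mem_filter.2 ⟨mem_image_of_mem μ (mem_univ l), (mem_filter.1 hl).2⟩)]
      refine sum_congr rfl fun z hz => sum_congr ?_ fun _ _ => rfl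
      ext l; simp only [mem_filter, mem_univ, true_and]
      exact ⟨fun h => ⟨h ▸ (mem_filter.1 hz).2, h⟩, fun h => h.2⟩
    rw [ck, ctk, ← sum_sub_distrib, Multiset.sum_bind, ← sum_eq_multiset_sum,
      ← sum_filter_add_sum_filter_not univ (fun l => μ l ^ n = -1)]
    have e0 : ∑ l with ¬ μ l ^ n = -1, (μ l ^ (n + 1) - μ l) = 0 := sum_eq_zero fun l hl => by
      rw [pow_succ, ((hsq l).resolve_right (mem_filter.1 hl).2), one_mul, sub_self]
    have e1 : ∑ l with μ l ^ n = -1, (μ l ^ (n + 1) - μ l) = -2 * ∑ l with μ l ^ n = -1, μ l := by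
      rw [mul_sum]
      exact sum_congr rfl fun l hl => by rw [pow_succ, (mem_filter.1 hl).2]; ring
    rw [e0, e1, add_zero, ← hfib, mul_sum, mul_sum]
    refine sum_congr rfl fun z hz => ?_
    obtain ⟨c, hc⟩ := hev z hz
    rw [sum_congr rfl (fun l hl => (mem_filter.1 hl).2), sum_const, Multiset.sum_replicate, hc,
      show (c + c) / 2 = c by omega, nsmul_eq_mul, nsmul_eq_mul]
    push_cast; ring
  · have hcard : ∑ z ∈ L, (univ.filter fun l => μ l = z).card =
        (univ.filter fun l => μ l ^ n = -1).card := by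
      rw [card_eq_sum_card_fiberwise (f := μ) (t := L) (fun l hl => mem_filter.2 ⟨mem_image_of_mem μ (mem_univ l), (mem_filter.1 hl).2⟩)]
      refine sum_congr rfl fun z hz => congrArg card ?_
      ext l; simp only [mem_filter, mem_univ, true_and]
      exact ⟨fun h => ⟨h ▸ (mem_filter.1 hz).2, h⟩, fun h => h.2⟩
    rw [c1, ct, ← sum_sub_distrib, Multiset.card_bind, ← sum_eq_multiset_sum,
      ← sum_filter_add_sum_filter_not univ (fun l => μ l ^ n = -1)]
    have e0 : ∑ l with ¬ μ l ^ n = -1, ((1 : ℂ) - μ l ^ n) = 0 := sum_eq_zero fun l hl => by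
      rw [((hsq l).resolve_right (mem_filter.1 hl).2), sub_self]
    have e1 : ∑ l with μ l ^ n = -1, ((1 : ℂ) - μ l ^ n) =
        2 * ((univ.filter fun l => μ l ^ n = -1).card : ℂ) := by
      rw [sum_congr rfl (g := fun _ => (2 : ℂ)) fun l hl => by rw [(mem_filter.1 hl).2]; norm_num,
        sum_const, nsmul_eq_mul, mul_comm]
    rw [e0, e1, add_zero, ← hcard]
    push_cast
    rw [mul_sum, mul_sum]
    refine sum_congr rfl fun z hz => ?_
    obtain ⟨c, hc⟩ := hev z hz
    rw [Function.comp_apply, Multiset.card_replicate, hc, show (c + c) / 2 = c by omega]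
    push_cast; ring

/-- The difference at a character. -/
theorem pm_split_char {χ : G → ℂ} (hχ : Cfsg.IsCharacter G χ) {t k i j : G} (ht : t * t = 1)
    (htk : Commute t k) {n : ℕ} (hn : Odd n) (hkn : k ^ n = 1)
    (hi : Commute i (t * k)) (hj : Commute j (t * k)) (hij : i * j * i⁻¹ * j⁻¹ = t) :
    ∃ s : Multiset ℂ, (∀ μ ∈ s, μ ^ n = 1) ∧
      χ k - χ (t * k) = 4 * s.sum ∧ χ 1 - χ t = 4 * (Multiset.card s : ℂ) := by
  obtain ⟨d, ρ, rfl⟩ := hχ
  exact pm_split ρ ht htk hn hkn hi hj hij

theorem not_isIntegral_half : ¬ IsIntegral ℤ ((1 : ℂ) / 2) := by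
  intro h
  have hq : IsIntegral ℤ ((1 : ℚ) / 2) := by
    rw [← isIntegral_algebraMap_iff (B := ℂ) (algebraMap ℚ ℂ).injective]
    simpa using h
  obtain ⟨m, hm⟩ := IsIntegrallyClosed.isIntegral_iff.mp hq
  simp only [eq_intCast] at hm
  have h2 : (m : ℚ) * 2 = 1 := by rw [hm]; norm_num
  have h3 : m * 2 = 1 := by exact_mod_cast h2
  omega

theorem isIntegral_of_pow {μ : ℂ} {n : ℕ} (hn : 0 < n) (h : μ ^ n = 1) : IsIntegral ℤ μ :=
  IsIntegral.of_pow hn (h ▸ isIntegral_one)

/-- Roots of unity of odd order congruent modulo two are equal. -/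
theorem eq_of_half {μ ν : ℂ} {n : ℕ} (hn : Odd n) (hμ : μ ^ n = 1) (hν : ν ^ n = 1)
    (h : IsIntegral ℤ ((μ + ν) / 2)) : μ = ν := by
  have hμ0 : μ ≠ 0 := by rintro rfl; simp [hn.pos.ne'] at hμ
  have hinv : IsIntegral ℤ μ⁻¹ := isIntegral_of_pow hn.pos (by rw [inv_pow, hμ, inv_one])
  set η := ν * μ⁻¹ with hη
  have hηn : η ^ n = 1 := by rw [hη, mul_pow, hν, inv_pow, hμ, inv_one, mul_one]
  have hηi : IsIntegral ℤ η := isIntegral_of_pow hn.pos hηn
  have hh : IsIntegral ℤ ((η + 1) / 2) := by
    have := h.mul hinv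
    rwa [show (μ + ν) / 2 * μ⁻¹ = (η + 1) / 2 by rw [hη]; field_simp; ring] at this
  by_contra hne
  have hη1 : η ≠ 1 := fun h1 => hne (by rw [hη, mul_inv_eq_one₀ hμ0] at h1; exact h1.symm)
  have hgeo : ∑ j ∈ range n, η ^ j = 0 := by rw [geom_sum_eq hη1, hηn, sub_self, zero_div]
  have hterm : ∀ j, IsIntegral ℤ ((η ^ j - (-1 : ℂ) ^ j) / 2) := fun j => by
    rw [← geom_sum₂_mul η (-1) j, mul_div_assoc, show η - -1 = η + 1 by ring]
    exact (IsIntegral.sum _ fun i _ => (hηi.pow _).mul (isIntegral_one.neg.pow _)).mul hh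
  have hsum : IsIntegral ℤ (∑ j ∈ range n, (η ^ j - (-1 : ℂ) ^ j) / 2) :=
    IsIntegral.sum _ fun j _ => hterm j
  rw [← sum_div, sum_sub_distrib, hgeo, neg_one_geom_sum, if_neg (Nat.not_even_iff_odd.2 hn),
    show ((0 : ℂ) - 1) / 2 = -((1 : ℂ) / 2) by ring] at hsum
  exact not_isIntegral_half (by simpa using hsum.neg)

end Cfsg.Agent.H70.SemiCore
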