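import Cfsg.Agent.H23.GL23.Vectors

/-!
# The eight characters behind the special virtual characters of `GL(2,3)`
-/

set_option autoImplicit false
set_option maxHeartbeats 1600000

namespace Cfsg.Agent.H70.SemiCore

open Finset Cfsg.Agent.H70.SignedUnits Cfsg.Agent.H23.GL23

variable {X : Type*} [Fintype X] [DecidableEq X]

/-- Eight points carrying the five vectors. -/
structure Octet (V : VData X) where
  /-- the points -/
  pt : Fin 8 → X
  /-- the signs -/
  sg : Fin 8 → ℤˣ
  inj : Function.Injective pt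
  pt0 : pt 0 = V.e
  sg0 : sg 0 = 1
  hv0 : V.v0 = vec (pt 1, sg 1) + vec (pt 2, sg 2)
  hv1 : V.v1 = vec (pt 1, -sg 1) + vec (pt 3, sg 3)
  hv2 : V.v2 = vec (V.e, 1) + vec (pt 3, sg 3) + vec (pt 4, sg 4)
  hv3 : V.v3 = vec (V.e, 1) + vec (pt 5, sg 5) + vec (pt 6, sg 6)
  hv4 : V.v4 = vec (pt 4, -sg 4) + vec (pt 5, sg 5) + vec (pt 7, sg 7)

variable (V : VData X)

theorem octet_core {A B : X} {α β : ℤˣ} (hAB : A ≠ B) (hv0 : V.v0 = vec (A, α) + vec (B, β))
    (hA : V.v1 A * α = -1) (hB : V.v1 B = 0) :
    Nonempty (Octet V) := by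
  have hαu := unit_sq α
  have hβu := unit_sq β
  have h0 : ∀ v : X → ℤ, dot v V.v0 = v A * α + v B * β := fun v => by
    rw [hv0, dot_add_right, dot_vec, dot_vec]
  have hAe : A ≠ V.e := by
    rintro rfl
    have := V.e0
    rw [hv0, Pi.add_apply, vec_apply_self, vec_apply_ne β hAB] at this
    simp at this
  have hBe : B ≠ V.e := by
    rintro rfl
    have := V.e0
    rw [hv0, Pi.add_apply, vec_apply_self, vec_apply_ne α hAB.symm] at this
    simp at this
  -- the second vector
  have hA' : V.v1 A = ((-α : ℤˣ) : ℤ) := by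
    push_cast
    linear_combination (α : ℤ) * hA - (V.v1 A) * hαu
  obtain ⟨⟨Xc, ξ⟩, hX⟩ := exists_vec_of_norm_one (v := V.v1 - vec (A, -α))
    (by rw [dot_sub_unit (u := (A, -α)) hA', V.g11]; norm_num)
  have hv1 : V.v1 = vec (A, -α) + vec (Xc, ξ) := by rw [← hX]; abel
  have hξu := unit_sq ξ
  have hXA : Xc ≠ A := by
    intro h
    have := congrFun hX A
    rw [← h, vec_apply_self, Pi.sub_apply, h, hA', vec_apply_self] at this
    simp at this; exact (Units.ne_zero _ this.symm).elim
  have hXB : Xc ≠ B := by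
    intro h
    have := congrFun hX B
    rw [← h, vec_apply_self, Pi.sub_apply, h, hB, vec_apply_ne _ hAB.symm] at this
    simp at this; exact (Units.ne_zero _ this.symm).elim
  have hXe : Xc ≠ V.e := by
    intro h
    have := congrFun hX V.e
    rw [← h, vec_apply_self, Pi.sub_apply, h, V.e1, vec_apply_ne _ hAe.symm] at this
    simp at this; exact (Units.ne_zero _ this.symm).elim
  have h1 : ∀ v : X → ℤ, dot v V.v1 = -(v A * α) + v Xc * ξ := fun v => by
    rw [hv1, dot_add_right, dot_vec, dot_vec]; push_cast; ring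
  -- the third vector
  have e20 := h0 V.v2; rw [V.g02] at e20
  have e21 := h1 V.v2; rw [V.g12] at e21
  have hdA := V.dpos A
  have hd0 : (α : ℤ) * V.d A + β * V.d B = 0 := by
    have := V.d0
    rw [dot_comm, h0] at this
    linarith
  have hd1 : (ξ : ℤ) * V.d Xc = α * V.d A := by
    have := V.d1
    rw [dot_comm, h1] at this
    linarith
  have inj4 : Function.Injective ![V.e, A, B, Xc] := by
    intro i j h
    fin_cases i <;> fin_cases j <;>
      first
        | rfl
        | (simp at h
           first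
             | exact absurd h hAe | exact absurd h.symm hAe | exact absurd h hBe
             | exact absurd h.symm hBe | exact absurd h hXe | exact absurd h.symm hXe
             | exact absurd h hAB | exact absurd h.symm hAB | exact absurd h hXA
             | exact absurd h.symm hXA | exact absurd h hXB | exact absurd h.symm hXB)
  have hb2 := bessel' V.v2 _ inj4
  simp [Fin.sum_univ_four, V.e2, V.g22] at hb2
  have hsq : ∀ (v : ℤ) (u : ℤˣ), (v * u) * (v * u) = v * v := fun v u => by
    linear_combination (v * v) * unit_sq u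
  have hcase : V.v2 A = 0 ∧ V.v2 B = 0 ∧ V.v2 Xc = (ξ : ℤ) := by
    have hb : V.v2 B * β = -(V.v2 A * α) := by linarith
    have hx : V.v2 Xc * ξ = 1 + V.v2 A * α := by linarith
    have hk : V.v2 A * α = -1 ∨ V.v2 A * α = 0 ∨ V.v2 A * α = 1 := by
      rcases Int.units_eq_one_or α with e | e <;>
        rcases abs_le_one_of_norm V.g22 (by norm_num) A with a | a | a <;> simp [e, a]
    rw [← hsq (V.v2 A) α, ← hsq (V.v2 B) β, ← hsq (V.v2 Xc) ξ, hb, hx] at hb2
    rcases hk with hk | hk | hk
    · exfalso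
      rw [hk] at hb hx
      have hA2 : V.v2 A = ((-α : ℤˣ) : ℤ) := by
        push_cast; linear_combination (α : ℤ) * hk - (V.v2 A) * hαu
      have hB2 : V.v2 B = (β : ℤ) := by linear_combination (β : ℤ) * hb - (V.v2 B) * hβu
      have hrest : V.v2 - vec (V.e, 1) - vec (A, -α) - vec (B, β) = 0 := eq_zero_of_dot_self (by
        rw [dot_sub_unit (u := (B, β)) (by
            rw [sub_unit_apply (u := (A, -α)) hAB.symm, sub_unit_apply (u := (V.e, 1)) hBe, hB2]),
          dot_sub_unit (u := (A, -α)) (by rw [sub_unit_apply (u := (V.e, 1)) hAe, hA2]),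
          dot_sub_unit (u := (V.e, 1)) (by simp [V.e2]), V.g22]
        norm_num)
      have hdd := congrArg (fun w => dot V.d w) hrest
      simp only [dot_sub_right, dot_vec, dot_comm V.d V.v2, V.d2, V.de] at hdd
      simp [dot] at hdd
      rcases Int.units_eq_one_or α with eα | eα <;> rcases Int.units_eq_one_or β with eβ | eβ <;>
        simp [eα, eβ] at hdd hd0 <;> omega
    · refine ⟨?_, ?_, ?_⟩
      · linear_combination (α : ℤ) * hk - (V.v2 A) * hαu
      · rw [hk] at hb; linear_combination (β : ℤ) * hb - (V.v2 B) * hβu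
      · rw [hk] at hx; linear_combination (ξ : ℤ) * hx - (V.v2 Xc) * hξu
    · rw [hk] at hb2; norm_num at hb2
  obtain ⟨h2A, h2B, h2X⟩ := hcase
  obtain ⟨⟨Y, η⟩, hY⟩ := exists_vec_of_norm_one (v := V.v2 - vec (V.e, 1) - vec (Xc, ξ))
    (by rw [dot_sub_unit (u := (Xc, ξ)) (by rw [sub_unit_apply (u := (V.e, 1)) hXe, h2X]),
      dot_sub_unit (u := (V.e, 1)) (by simp [V.e2]), V.g22]; norm_num)
  have hv2 : V.v2 = vec (V.e, 1) + vec (Xc, ξ) + vec (Y, η) := by rw [← hY]; abel
  have hηu := unit_sq η
  have hYe : Y ≠ V.e := by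
    intro h
    have := congrFun hY V.e
    rw [← h, vec_apply_self, Pi.sub_apply, Pi.sub_apply, h, V.e2, vec_apply_self,
      vec_apply_ne _ hXe.symm] at this
    simp at this; exact (Units.ne_zero _ this.symm).elim
  have hYA : Y ≠ A := by
    intro h
    have := congrFun hY A
    rw [← h, vec_apply_self, Pi.sub_apply, Pi.sub_apply, h, h2A, vec_apply_ne _ hAe,
      vec_apply_ne _ hXA.symm] at this
    simp at this; exact (Units.ne_zero _ this.symm).elim
  have hYB : Y ≠ B := by
    intro h
    have := congrFun hY B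
    rw [← h, vec_apply_self, Pi.sub_apply, Pi.sub_apply, h, h2B, vec_apply_ne _ hBe,
      vec_apply_ne _ hXB.symm] at this
    simp at this; exact (Units.ne_zero _ this.symm).elim
  have hYX : Y ≠ Xc := by
    intro h
    have := congrFun hY Xc
    rw [← h, vec_apply_self, Pi.sub_apply, Pi.sub_apply, h, h2X, vec_apply_ne _ hXe,
      vec_apply_self] at this
    simp at this; exact (Units.ne_zero _ this.symm).elim
  have h2 : ∀ v : X → ℤ, dot v V.v2 = v V.e + v Xc * ξ + v Y * η := fun v => by
    rw [hv2, dot_add_right, dot_add_right, dot_vec, dot_vec, dot_vec]; simp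
  have inj5 : Function.Injective ![V.e, A, B, Xc, Y] := by
    intro i j h
    fin_cases i <;> fin_cases j <;>
      first
        | rfl
        | (simp at h
           first
             | exact absurd h hAe | exact absurd h.symm hAe | exact absurd h hBe
             | exact absurd h.symm hBe | exact absurd h hXe | exact absurd h.symm hXe
             | exact absurd h hAB | exact absurd h.symm hAB | exact absurd h hXA
             | exact absurd h.symm hXA | exact absurd h hXB | exact absurd h.symm hXB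
             | exact absurd h hYe | exact absurd h.symm hYe | exact absurd h hYA
             | exact absurd h.symm hYA | exact absurd h hYB | exact absurd h.symm hYB
             | exact absurd h hYX | exact absurd h.symm hYX)
  -- the fourth vector
  have e30 := h0 V.v3; rw [V.g03] at e30
  have e31 := h1 V.v3; rw [V.g13] at e31
  have e32 := h2 V.v3; rw [V.g23, V.e3] at e32
  have hb3 := bessel' V.v3 _ inj5
  simp [Fin.sum_univ_five, V.e3, V.g33] at hb3
  have hk3 : V.v3 A * α = 0 := by
    have hb : V.v3 B * β = -(V.v3 A * α) := by linarith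
    have hx : V.v3 Xc * ξ = V.v3 A * α := by linarith
    have hy : V.v3 Y * η = -(V.v3 A * α) := by linarith
    rw [← hsq (V.v3 A) α, ← hsq (V.v3 B) β, ← hsq (V.v3 Xc) ξ, ← hsq (V.v3 Y) η, hb, hx, hy] at hb3
    nlinarith
  have hz : ∀ {v : ℤ} {u : ℤˣ}, v * u = 0 → v = 0 := fun h => by
    rcases mul_eq_zero.1 h with h' | h'
    · exact h'
    · exact absurd h' (Units.ne_zero _)
  have h3A : V.v3 A = 0 := hz hk3
  have h3B : V.v3 B = 0 := hz (show V.v3 B * (β : ℤ) = 0 by linarith)
  have h3X : V.v3 Xc = 0 := hz (show V.v3 Xc * (ξ : ℤ) = 0 by linarith)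
  have h3Y : V.v3 Y = 0 := hz (show V.v3 Y * (η : ℤ) = 0 by linarith)
  -- the fifth vector
  have e40 := h0 V.v4; rw [V.g04] at e40
  have e41 := h1 V.v4; rw [V.g14] at e41
  have e42 := h2 V.v4; rw [V.g24, V.e4] at e42
  have hb4 := bessel' V.v4 _ inj5
  simp [Fin.sum_univ_five, V.e4, V.g44] at hb4
  have hk4 : V.v4 A * α = 0 := by
    have hb : V.v4 B * β = -(V.v4 A * α) := by linarith
    have hx : V.v4 Xc * ξ = V.v4 A * α := by linarith
    have hy : V.v4 Y * η = -1 - V.v4 A * α := by linarith
    rw [← hsq (V.v4 A) α, ← hsq (V.v4 B) β, ← hsq (V.v4 Xc) ξ, ← hsq (V.v4 Y) η, hb, hx, hy] at hb4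
    have hk : V.v4 A * α = -1 ∨ V.v4 A * α = 0 ∨ V.v4 A * α = 1 := by
      rcases Int.units_eq_one_or α with e | e <;>
        rcases abs_le_one_of_norm V.g44 (by norm_num) A with a | a | a <;> simp [e, a]
    rcases hk with hk | hk | hk
    · exfalso
      rw [hk] at hb hx
      have hA4 : V.v4 A = ((-α : ℤˣ) : ℤ) := by
        push_cast; linear_combination (α : ℤ) * hk - (V.v4 A) * hαu
      have hB4 : V.v4 B = (β : ℤ) := by linear_combination (β : ℤ) * hb - (V.v4 B) * hβu
      have hX4 : V.v4 Xc = ((-ξ : ℤˣ) : ℤ) := by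
        push_cast; linear_combination (ξ : ℤ) * hx - (V.v4 Xc) * hξu
      have hrest : V.v4 - vec (A, -α) - vec (B, β) - vec (Xc, -ξ) = 0 := eq_zero_of_dot_self (by
        rw [dot_sub_unit (u := (Xc, -ξ)) (by
            rw [sub_unit_apply (u := (B, β)) hXB, sub_unit_apply (u := (A, -α)) hXA, hX4]),
          dot_sub_unit (u := (B, β)) (by rw [sub_unit_apply (u := (A, -α)) hAB.symm, hB4]),
          dot_sub_unit (u := (A, -α)) hA4, V.g44]
        norm_num)
      have := congrArg (fun w => dot V.v3 w) hrest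
      simp only [dot_sub_right, dot_vec, h3A, h3B, h3X, dot_comm V.v3 V.v4, V.g34] at this
      simp [dot] at this
    · exact hk
    · rw [hk] at hb4; norm_num at hb4
  have h4A : V.v4 A = 0 := hz hk4
  have h4X : V.v4 Xc = 0 := hz (show V.v4 Xc * (ξ : ℤ) = 0 by linarith)
  have h4Y : V.v4 Y = -(η : ℤ) := by
    have : V.v4 Y * η = -1 := by linarith
    linear_combination (η : ℤ) * this - (V.v4 Y) * hηu
  have h4B : V.v4 B = 0 := hz (show V.v4 B * (β : ℤ) = 0 by
    rw [h4A] at e40; linarith)
  -- the two last units of the fourth vector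
  obtain ⟨⟨C, γ⟩, ⟨D, δ⟩, hCD, hw3⟩ := exists_vec_of_norm_two (v := V.v3 - vec (V.e, 1))
    (by rw [dot_sub_unit (u := (V.e, 1)) (by simp [V.e3]), V.g33]; norm_num)
  have hCD : C ≠ D := hCD
  have hv3 : V.v3 = vec (V.e, 1) + vec (C, γ) + vec (D, δ) := by
    rw [add_assoc, ← hw3]; abel
  have hnew : ∀ x, V.v3 x - vec (V.e, 1) x = 0 → C ≠ x ∧ D ≠ x := by
    intro x hx
    have h : vec (C, γ) x + vec (D, δ) x = 0 := by
      have := congrFun hw3 x
      simp only [Pi.sub_apply, Pi.add_apply] at this
      rw [← this]; exact hx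
    constructor
    · rintro rfl
      rw [vec_apply_self, vec_apply_ne _ hCD, add_zero] at h
      exact Units.ne_zero _ h
    · rintro rfl
      rw [vec_apply_ne _ hCD.symm, vec_apply_self, zero_add] at h
      exact Units.ne_zero _ h
  obtain ⟨hCe, hDe⟩ := hnew V.e (by rw [V.e3, vec_apply_self]; simp)
  obtain ⟨hCA, hDA⟩ := hnew A (by rw [h3A, vec_apply_ne _ hAe, sub_zero])
  obtain ⟨hCB, hDB⟩ := hnew B (by rw [h3B, vec_apply_ne _ hBe, sub_zero])
  obtain ⟨hCX, hDX⟩ := hnew Xc (by rw [h3X, vec_apply_ne _ hXe, sub_zero])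
  obtain ⟨hCY, hDY⟩ := hnew Y (by rw [h3Y, vec_apply_ne _ hYe, sub_zero])
  have h43 : V.v4 C * γ + V.v4 D * δ = 1 := by
    have h := V.g34
    rw [hv3, dot_add_right, dot_add_right, dot_vec, dot_vec, dot_vec, V.e4] at h
    simpa using h
  have hv4Y : V.v4 Y = ((-η : ℤˣ) : ℤ) := by rw [h4Y]; simp
  have hv4Y' : (V.v4 - vec (Y, -η)) Y = 0 := by simp [vec, hv4Y]
  -- finish once the common unit is named
  have fin : ∀ (C D : X) (γ δ : ℤˣ), C ≠ D → V.v3 = vec (V.e, 1) + vec (C, γ) + vec (D, δ) →
      C ≠ V.e → C ≠ A → C ≠ B → C ≠ Xc → C ≠ Y →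
      D ≠ V.e → D ≠ A → D ≠ B → D ≠ Xc → D ≠ Y →
      V.v4 C = γ → V.v4 D = 0 → Nonempty (Octet V) := by
    intro C D γ δ hCD hv3 hCe hCA hCB hCX hCY hDe hDA hDB hDX hDY h4C h4D
    obtain ⟨⟨E, ε⟩, hE⟩ := exists_vec_of_norm_one (v := V.v4 - vec (Y, -η) - vec (C, γ))
      (by rw [dot_sub_unit (u := (C, γ)) (by rw [sub_unit_apply (u := (Y, -η)) hCY, h4C]),
        dot_sub_unit (u := (Y, -η)) hv4Y, V.g44]; norm_num)
    have hv4 : V.v4 = vec (Y, -η) + vec (C, γ) + vec (E, ε) := by rw [← hE]; abel
    have hEne : ∀ x, x ≠ Y → x ≠ C → V.v4 x = 0 → E ≠ x := by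
      rintro x hxY hxC hx rfl
      have := congrFun hE E
      simp only [Pi.sub_apply, hx, vec_apply_ne _ hxY, vec_apply_ne _ hxC, vec_apply_self] at this
      exact Units.ne_zero ε (by simpa using this.symm)
    have hEY : E ≠ Y := by
      rintro rfl
      have := congrFun hE E
      simp only [Pi.sub_apply, hv4Y, vec_apply_ne _ hCY.symm, vec_apply_self, sub_self] at this
      exact Units.ne_zero _ this.symm
    have hEC : E ≠ C := by
      rintro rfl
      have := congrFun hE E
      simp only [Pi.sub_apply, h4C, vec_apply_ne _ hCY, vec_apply_self, sub_zero, sub_self] at this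
      exact Units.ne_zero _ this.symm
    have hEe : E ≠ V.e := hEne _ hYe.symm hCe.symm V.e4
    have hEA : E ≠ A := hEne _ hYA.symm hCA.symm h4A
    have hEB : E ≠ B := hEne _ hYB.symm hCB.symm h4B
    have hEX : E ≠ Xc := hEne _ hYX.symm hCX.symm h4X
    have hED : E ≠ D := hEne _ hDY hCD.symm h4D
    refine ⟨⟨![V.e, A, B, Xc, Y, C, D, E], ![1, α, β, ξ, η, γ, δ, ε], ?_, rfl, rfl, hv0, hv1,
      hv2, hv3, hv4⟩⟩
    intro i j h
    fin_cases i <;> fin_cases j <;> simp at h <;> first
      | rfl
      | exact absurd h hAe | exact absurd h.symm hAe | exact absurd h hBe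
      | exact absurd h.symm hBe | exact absurd h hXe | exact absurd h.symm hXe
      | exact absurd h hYe | exact absurd h.symm hYe | exact absurd h hCe
      | exact absurd h.symm hCe | exact absurd h hDe | exact absurd h.symm hDe
      | exact absurd h hEe | exact absurd h.symm hEe
      | exact absurd h hAB | exact absurd h.symm hAB | exact absurd h hXA
      | exact absurd h.symm hXA | exact absurd h hXB | exact absurd h.symm hXB
      | exact absurd h hYA | exact absurd h.symm hYA | exact absurd h hYB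
      | exact absurd h.symm hYB | exact absurd h hYX | exact absurd h.symm hYX
      | exact absurd h hCA | exact absurd h.symm hCA | exact absurd h hCB
      | exact absurd h.symm hCB | exact absurd h hCX | exact absurd h.symm hCX
      | exact absurd h hCY | exact absurd h.symm hCY | exact absurd h hDA
      | exact absurd h.symm hDA | exact absurd h hDB | exact absurd h.symm hDB
      | exact absurd h hDX | exact absurd h.symm hDX | exact absurd h hDY
      | exact absurd h.symm hDY | exact absurd h hCD | exact absurd h.symm hCD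
      | exact absurd h hEA | exact absurd h.symm hEA | exact absurd h hEB
      | exact absurd h.symm hEB | exact absurd h hEX | exact absurd h.symm hEX
      | exact absurd h hEY | exact absurd h.symm hEY | exact absurd h hEC
      | exact absurd h.symm hEC | exact absurd h hED | exact absurd h.symm hED
  rcases abs_le_one_of_norm V.g44 (by norm_num) C with c | c | c <;>
    rcases abs_le_one_of_norm V.g44 (by norm_num) D with d | d | d <;>
    rw [c, d] at h43
  all_goals first
    | exact fin C D γ δ hCD hv3 hCe hCA hCB hCX hCY hDe hDA hDB hDX hDY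
        (by rw [c]; rcases Int.units_eq_one_or γ with e | e <;> simp [e] at h43 ⊢) d
    | exact fin D C δ γ hCD.symm (by rw [hv3]; abel) hDe hDA hDB hDX hDY hCe hCA hCB hCX hCY
        (by rw [d]; rcases Int.units_eq_one_or δ with e | e <;> simp [e] at h43 ⊢) c
    | (rcases Int.units_eq_one_or γ with eγ | eγ <;> rcases Int.units_eq_one_or δ with eδ | eδ <;>
        simp [eγ, eδ] at h43)

/-- The eight characters exist. -/
theorem exists_octet : Nonempty (Octet V) := by
  obtain ⟨⟨A, α⟩, ⟨B, β⟩, hAB, h⟩ := exists_vec_of_norm_two V.g00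
  have hAB : A ≠ B := hAB
  have e := V.g01
  rw [h, dot_add_right, dot_vec, dot_vec] at e
  simp only at e
  rcases abs_le_one_of_norm V.g11 (by norm_num) A with a | a | a <;>
    rcases abs_le_one_of_norm V.g11 (by norm_num) B with b | b | b <;>
    rw [a, b] at e
  all_goals first
    | exact octet_core V hAB h (by rw [a]; linarith) b
    | exact octet_core V hAB.symm (by rw [h, add_comm]) (by rw [b]; linarith) a
    | (rcases Int.units_eq_one_or α with eα | eα <;> rcases Int.units_eq_one_or β with eβ | eβ <;>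
        simp [eα, eβ] at e)

end Cfsg.Agent.H70.SemiCore

namespace Cfsg.Agent.H70.SemiCore

open Finset Cfsg.Agent.H70.SignedUnits Cfsg.Agent.H23.GL23

variable {X : Type*} [Fintype X] [DecidableEq X] {V : VData X}

theorem sum_vec_mul {R : Type*} [CommRing R] (u : X × ℤˣ) (F : X → R) :
    ∑ x, ((vec u x : ℤ) : R) * F x = ((u.2 : ℤ) : R) * F u.1 := by
  rw [Finset.sum_eq_single u.1]
  · simp [vec]
  · intro x _ hx; simp [vec, Pi.single_eq_of_ne hx]
  · simp

namespace Octet

variable (O : Octet V) {R : Type*} [CommRing R]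

/-- the signed value of a function at one of the eight points -/
def at' (F : X → R) (i : Fin 8) : R := ((O.sg i : ℤ) : R) * F (O.pt i)

theorem at_zero (F : X → R) : O.at' F 0 = F V.e := by simp [at', O.pt0, O.sg0]

theorem sum_v0 (F : X → R) : ∑ x, (V.v0 x : R) * F x = O.at' F 1 + O.at' F 2 := by
  simp only [O.hv0, Pi.add_apply, Int.cast_add, add_mul, sum_add_distrib, sum_vec_mul, at']

theorem sum_v1 (F : X → R) : ∑ x, (V.v1 x : R) * F x = -O.at' F 1 + O.at' F 3 := by
  simp only [O.hv1, Pi.add_apply, Int.cast_add, add_mul, sum_add_distrib, sum_vec_mul, at',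
    Units.val_neg, Int.cast_neg, neg_mul]

theorem sum_v2 (F : X → R) : ∑ x, (V.v2 x : R) * F x = F V.e + O.at' F 3 + O.at' F 4 := by
  simp only [O.hv2, Pi.add_apply, Int.cast_add, add_mul, sum_add_distrib, sum_vec_mul, at',
    Units.val_one, Int.cast_one, one_mul]

theorem sum_v3 (F : X → R) : ∑ x, (V.v3 x : R) * F x = F V.e + O.at' F 5 + O.at' F 6 := by
  simp only [O.hv3, Pi.add_apply, Int.cast_add, add_mul, sum_add_distrib, sum_vec_mul, at',
    Units.val_one, Int.cast_one, one_mul]

theorem sum_v4 (F : X → R) :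
    ∑ x, (V.v4 x : R) * F x = -O.at' F 4 + O.at' F 5 + O.at' F 7 := by
  simp only [O.hv4, Pi.add_apply, Int.cast_add, add_mul, sum_add_distrib, sum_vec_mul, at',
    Units.val_neg, Int.cast_neg, neg_mul]

/-- the values on the eight points -/
def cf : Fin 8 → ℤ := ![1, -2, 2, 2, -3, 4, 3, 1]

/-- the sum against the values -/
theorem sum_val (F : X → R) :
    ∑ x, (V.val x : R) * F x = ∑ i, (cf i : R) * O.at' F i := by
  have e : ∀ x, (V.val x : R) * F x = 2 * ((V.v0 x : R) * F x) + 4 * ((V.v1 x : R) * F x) +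
      (-2) * ((V.v2 x : R) * F x) + 3 * ((V.v3 x : R) * F x) + (V.v4 x : R) * F x := fun x => by
    simp only [VData.val]; push_cast; ring
  simp only [sum_congr rfl fun x _ => e x, sum_add_distrib, ← mul_sum, O.sum_v0, O.sum_v1,
    O.sum_v2, O.sum_v3, O.sum_v4, Fin.sum_univ_eight, cf, Matrix.cons_val, O.at_zero]
  push_cast; ring

theorem val_pt (i : Fin 8) : V.val (O.pt i) = cf i * (O.sg i : ℤ) := by
  have h := O.sum_val (R := ℤ) (fun x => if x = O.pt i then (1 : ℤ) else 0)
  simp only [mul_ite, mul_one, mul_zero, sum_ite_eq', mem_univ, if_true, Int.cast_id] at h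
  rw [h, sum_eq_single i]
  · simp [at']
  · intro j _ hj; simp [at', O.inj.ne hj]
  · simp

theorem val_ne (i : Fin 8) : V.val (O.pt i) ≠ 0 := by
  rw [O.val_pt]
  refine mul_ne_zero ?_ (Units.ne_zero _)
  fin_cases i <;> simp [cf]

end Octet

end Cfsg.Agent.H70.SemiCore
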