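import Cfsg.Agent.H23.GL23.Virtual

/-!
# Further facts about the table model of `GL(2,3)`
-/

set_option autoImplicit false
set_option maxHeartbeats 800000

namespace Cfsg.Agent.H70.SemiCore

open Cfsg.Agent.H23.GL23

/-- reflections of the model -/
def isRefl (g : M) : Prop := g * g = 1 ∧ g ≠ 1 ∧ g ≠ zc

instance : DecidablePred isRefl := fun g => by unfold isRefl; infer_instance

theorem pow_twentyfour : ∀ g : M, g ^ 24 = 1 := by decide +kernel

theorem isT_unique24 : ∀ g : M, isT g → ∀ k : Fin 24, g ^ (k : ℕ) * g ^ (k : ℕ) = 1 →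
    g ^ (k : ℕ) ≠ 1 → g ^ (k : ℕ) = zc := by decide +kernel

theorem isT_unique_nat {g : M} (hg : isT g) {n : ℕ} (h2 : g ^ n * g ^ n = 1) (h1 : g ^ n ≠ 1) :
    g ^ n = zc := by
  have e : g ^ n = g ^ (n % 24) := pow_eq_pow_mod n (pow_twentyfour g)
  rw [e] at h2 h1 ⊢
  exact isT_unique24 g hg ⟨n % 24, Nat.mod_lt _ (by norm_num)⟩ h2 h1

theorem isT_zc : isT zc := by decide +kernel

theorem not_isT_refl : ∀ g : M, isRefl g → ¬ isT g := by decide +kernel

theorem card_refl : (Finset.univ.filter isRefl).card = 12 := by decide +kernel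

theorem isRefl_rf : isRefl rf := by decide +kernel

theorem par_refl : ∀ g : M, isRefl g → par g = 1 := by decide +kernel

theorem par_zc : par zc = 0 := by decide +kernel

/-- Both factors of a counted factorisation are reflections. -/
theorem count_refl : ∀ d a : M, isT d → (a * a = 1 ∧ a ≠ 1 ∧ (a * d) * (a * d) = 1 ∧ a * d ≠ 1) →
    isRefl a ∧ isRefl (a * d) := by decide +kernel

theorem phi_count_three : ∑ g : M, phi 3 g * (countInv g : ℤ) = (192 : ℤ) := by decide +kernel

theorem quat_pair : ∃ a b : M, par a = 0 ∧ par b = 0 ∧ a * b * a⁻¹ * b⁻¹ = zc ∧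
    a ^ 4 = 1 ∧ b ^ 4 = 1 := by decide +kernel

theorem card_par_zero : (Finset.univ.filter fun g : M => par g = 0).card = 24 := by decide +kernel

/-- every element is a product of four elements of square one -/
theorem four_squares (g : M) : ∃ a b c d : M,
    a * a = 1 ∧ b * b = 1 ∧ c * c = 1 ∧ d * d = 1 ∧ g = a * b * (c * d) := by
  obtain ⟨a, ha, hb⟩ := invol_gen g
  obtain ⟨x, hx, hxa⟩ := of_decide_eq_true ha
  obtain ⟨y, hy, hyb⟩ := of_decide_eq_true hb
  refine ⟨x, x * a, y, y * (a⁻¹ * g), hx, hxa, hy, hyb, ?_⟩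
  rw [← mul_assoc x x a, hx, one_mul, ← mul_assoc y y (a⁻¹ * g), hy, one_mul, mul_inv_cancel_left]

/-- every normal subgroup other than the trivial one contains the central involution -/
theorem zc_mem_normal (N : Subgroup M) [N.Normal] (hN : N ≠ ⊥) : zc ∈ N := by
  obtain ⟨g, hg, hg1⟩ := (Subgroup.ne_bot_iff_exists_ne_one.1 hN).elim fun g hg =>
    (⟨(g : M), g.2, fun h => hg (Subtype.ext h)⟩ : ∃ g : M, g ∈ N ∧ g ≠ 1)
  rcases comm_zc g hg1 with h | ⟨k, h⟩
  · exact h ▸ hg
  · have hm : g * k * g⁻¹ * k⁻¹ ∈ N := by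
      rw [mul_assoc g k, mul_assoc g]
      exact N.mul_mem hg (‹N.Normal›.conj_mem _ (N.inv_mem hg) k)
    rcases h with h | h
    · exact h ▸ hm
    · exact h ▸ N.mul_mem hm hm

/-- membership in the quaternion subgroup -/
def inQ (g : M) : Prop := par g = 0 ∧ g ^ 4 = 1

instance : DecidablePred inQ := fun g => by unfold inQ; infer_instance

theorem inQ_mul : ∀ a b : M, inQ a → inQ b → inQ (a * b) := by decide +kernel

theorem inQ_inv : ∀ a : M, inQ a → inQ a⁻¹ := by decide +kernel

theorem inQ_conj : ∀ a g : M, inQ a → inQ (g * a * g⁻¹) := by decide +kernel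

theorem inQ_centralizer : ∀ g : M, (∀ a : M, inQ a → a * g = g * a) → inQ g := by decide +kernel

theorem card_inQ : (Finset.univ.filter inQ).card = 8 := by decide +kernel

/-- the quaternion subgroup -/
def quat : Subgroup M where
  carrier := {g | inQ g}
  mul_mem' := fun {a b} => inQ_mul a b
  one_mem' := ⟨by decide +kernel, by decide +kernel⟩
  inv_mem' := fun {a} => inQ_inv a

instance : quat.Normal := ⟨fun a ha g => inQ_conj a g ha⟩

theorem isPGroup_quat : IsPGroup 2 quat :=
  fun a => ⟨2, Subtype.ext (by rw [Subgroup.coe_pow]; exact a.2.2)⟩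

end Cfsg.Agent.H70.SemiCore
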